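import Groth.Prelude.Def_W4c5flasquetoriphsGLat
import Mathlib.GroupTheory.GroupAction.Quotient
import Mathlib.GroupTheory.OrderOfElement
import Mathlib.LinearAlgebra.FreeModule.PID
import Mathlib.RingTheory.Noetherian.Basic
import Mathlib.LinearAlgebra.Pi
import Mathlib.LinearAlgebra.Dimension.Free
import Mathlib.LinearAlgebra.FreeModule.Finite.Basic
import Mathlib.Data.Int.GCD
import Mathlib.LinearAlgebra.StdBasis
import Mathlib.Algebra.Group.Subgroup.Finite
import Mathlib.RingTheory.PrincipalIdealDomain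
import Mathlib.Algebra.EuclideanDomain.Int

/-!
# Flasque and coflasque resolutions of lattices
-/

open Finset

namespace Groth.Agent.GLatLib

variable {G : Type} [Group G]

/-- The permutation representation on functions. -/
def permRep (G : Type) [Group G] (ι : Type) [MulAction G ι] : Representation ℤ G (ι → ℤ) where
  toFun g :=
    { toFun := fun p j => p (g⁻¹ • j)
      map_add' := fun _ _ => rfl
      map_smul' := fun _ _ => rfl }
  map_one' := by ext p j; simp
  map_mul' g h := by ext p j; simp [mul_smul]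

@[simp]
lemma permRep_apply {ι : Type} [MulAction G ι] (g : G) (p : ι → ℤ) (j : ι) :
    permRep G ι g p j = p (g⁻¹ • j) := rfl

lemma isPermutation_permRep (ι : Type) [MulAction G ι] [Finite ι] :
    GLat.IsPermutation (permRep G ι) := by
  classical
  refine ⟨ι, Pi.basisFun ℤ ι, fun g i => ⟨g • i, ?_⟩⟩
  ext j
  simp only [Pi.basisFun_apply, permRep_apply, Pi.single_apply]
  refine if_congr ?_ rfl rfl
  rw [inv_smul_eq_iff]

variable [Finite G]

lemma isCoflasque_permRep (ι : Type) [MulAction G ι] : GLat.IsCoflasque (permRep G ι) := by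
  classical
  intro H f hf
  have hval : ∀ (a b : H) (i : ι), f (a * b) i = f a i + f b ((a : G)⁻¹ • i) := fun a b i => by
    rw [hf]; rfl
  have hstab : ∀ (s : H) (i : ι), (s : G) • i = i → f s i = 0 := by
    intro s i hs
    have hn : ∀ n : ℕ, f (s ^ n) i = n * f s i := by
      intro n
      induction n with
      | zero =>
        have := hval 1 1 i
        simp only [mul_one, OneMemClass.coe_one, inv_one, one_smul] at this
        simp only [pow_zero, Nat.cast_zero, zero_mul]
        linarith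
      | succ n ih =>
        rw [pow_succ', hval, inv_smul_eq_iff.2 hs.symm, ih]
        push_cast
        ring
    have h1 := hn (orderOf s)
    rw [pow_orderOf_eq_one] at h1
    have h0 : f (1 : H) i = 0 := by simpa using hn 0
    rw [h0] at h1
    rcases mul_eq_zero.1 h1.symm with h | h
    · exact absurd h (by exact_mod_cast (orderOf_pos s).ne')
    · exact h
  have hc : ∀ i : ι, ∃ c : H, (c : G) • (Quotient.mk (MulAction.orbitRel H ι) i).out = i := by
    intro i
    obtain ⟨c, hc⟩ := (MulAction.orbitRel H ι).symm (Quotient.mk_out (s := MulAction.orbitRel H ι) i)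
    exact ⟨c, hc⟩
  choose c hc using hc
  refine ⟨fun i => -f (c i) i, fun a => funext fun i => ?_⟩
  simp only [Pi.sub_apply, permRep_apply]
  have hr : (Quotient.mk (MulAction.orbitRel H ι) ((a : G)⁻¹ • i)).out =
      (Quotient.mk (MulAction.orbitRel H ι) i).out := congrArg Quotient.out
    (Quotient.sound (s := MulAction.orbitRel H ι) ⟨a⁻¹, rfl⟩)
  let j := (a : G)⁻¹ • i
  have e₁ := hval a (a⁻¹ * c i) i
  rw [mul_inv_cancel_left] at e₁
  have e₂ := hval (c j) ((c j)⁻¹ * (a⁻¹ * c i)) j
  rw [mul_inv_cancel_left] at e₂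
  have hrj : ((c j : G))⁻¹ • j = (Quotient.mk (MulAction.orbitRel H ι) i).out := by
    rw [inv_smul_eq_iff, ← hr]
    exact (hc j).symm
  have e₃ : f ((c j)⁻¹ * (a⁻¹ * c i)) ((c j : G)⁻¹ • j) = 0 := hstab _ _ (by
    rw [hrj, Subgroup.coe_mul, Subgroup.coe_mul, Subgroup.coe_inv, Subgroup.coe_inv, mul_smul,
      mul_smul, hc i]
    exact hrj)
  rw [e₃, add_zero] at e₂
  rw [e₂] at e₁
  linarith

lemma finsum_apply_fun {ι : Type} {S : Type} [Finite S] (f : S → ι → ℤ) (i : ι) :
    (∑ᶠ s, f s) i = ∑ᶠ s, f s i := by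
  cases nonempty_fintype S
  rw [finsum_eq_sum_of_fintype, finsum_eq_sum_of_fintype, Finset.sum_apply]

lemma isFlasque_permRep (ι : Type) [MulAction G ι] [Finite ι] :
    GLat.IsFlasque (permRep G ι) := by
  classical
  intro H q hq
  cases nonempty_fintype ι
  cases nonempty_fintype H
  let rep : ι → ι := fun i => (Quotient.mk (MulAction.orbitRel H ι) i).out
  have hc : ∀ i : ι, ∃ c : H, (c : G) • rep i = i := by
    intro i
    obtain ⟨c, hc⟩ := (MulAction.orbitRel H ι).symm (Quotient.mk_out (s := MulAction.orbitRel H ι) i)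
    exact ⟨c, hc⟩
  choose c hc using hc
  have hrep : ∀ (h : H) (i : ι), rep ((h : G) • i) = rep i := fun h i => congrArg Quotient.out
    (Quotient.sound (s := MulAction.orbitRel H ι) ⟨h, rfl⟩)
  let q' : ι → ℤ := ∑ i, q i • Pi.single (rep i) (1 : ℤ)
  have hdiff : q - q' = ∑ i, q i • (permRep G ι (c i : G) (Pi.single (rep i) 1) - Pi.single (rep i) 1) := by
    simp only [q', smul_sub, Finset.sum_sub_distrib]
    congr 1
    have : ∀ i, permRep G ι (c i : G) (Pi.single (rep i) (1 : ℤ)) = Pi.single i 1 := fun i => by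
      funext j
      simp only [permRep_apply, Pi.single_apply]
      refine if_congr ?_ rfl rfl
      rw [inv_smul_eq_iff, hc]
    simp only [this]
    funext j
    simp [Finset.sum_apply, Pi.single_apply]
  have hq' : q' = 0 := by
    funext r
    simp only [q', Finset.sum_apply, Pi.smul_apply, Pi.single_apply, smul_eq_mul, mul_ite, mul_one,
      mul_zero, Pi.zero_apply]
    by_cases hr : rep r = r
    · have hN : ∑ h : H, q ((h : G)⁻¹ • r) = 0 := by
        have := congrFun hq r
        rwa [finsum_eq_sum_of_fintype, Finset.sum_apply] at this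
      have hinv : ∑ h : H, q ((h : G) • r) = 0 := by
        rw [← hN]
        exact (Fintype.sum_equiv (Equiv.inv H) (fun h => q ((h : G)⁻¹ • r)) _ (fun h => rfl)).symm
      have hfib : ∀ i, rep i = r →
          (Finset.univ.filter fun h : H => (h : G) • r = i).card =
            (Finset.univ.filter fun h : H => (h : G) • r = r).card := fun i hi => by
        have hci : (c i : G) • r = i := by rw [← hi]; exact hc i
        refine Finset.card_equiv (Equiv.mulLeft (c i)⁻¹) fun h => ?_
        simp only [Finset.mem_filter, Finset.mem_univ, true_and, Equiv.coe_mulLeft,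
          Subgroup.coe_mul, Subgroup.coe_inv, mul_smul, inv_smul_eq_iff, hci]
      have key : ∑ h : H, q ((h : G) • r) =
          ((Finset.univ.filter fun h : H => (h : G) • r = r).card : ℤ) *
            ∑ i, if r = rep i then q i else 0 := by
        rw [← Finset.sum_fiberwise_of_maps_to (t := Finset.univ) (g := fun h : H => (h : G) • r)
          (fun _ _ => Finset.mem_univ _), Finset.mul_sum]
        refine Finset.sum_congr rfl fun i _ => ?_
        rw [Finset.sum_congr rfl (g := fun _ => q i) fun h hh => by rw [(Finset.mem_filter.1 hh).2],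
          Finset.sum_const, nsmul_eq_mul]
        by_cases hi : r = rep i
        · rw [if_pos hi, hfib i hi.symm]
        · rw [if_neg hi, mul_zero, Finset.filter_false_of_mem, Finset.card_empty, Nat.cast_zero,
            zero_mul]
          intro h _ hh
          exact hi (by rw [← hh, hrep, hr])
      rw [hinv] at key
      refine (mul_eq_zero.1 key.symm).resolve_left (fun h0 => ?_)
      have h0' : (Finset.univ.filter fun h : H => (h : G) • r = r).card = 0 := by exact_mod_cast h0
      have : (1 : H) ∈ Finset.univ.filter fun h : H => (h : G) • r = r := by simp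
      simp [Finset.card_eq_zero.1 h0'] at this
    · refine Finset.sum_eq_zero fun i _ => if_neg fun h => hr ?_
      rw [h, ← hrep (c i) (rep i), hc]
  rw [← sub_zero q, ← hq', hdiff]
  exact Submodule.sum_mem _ fun i _ => Submodule.smul_mem _ _ (Submodule.subset_span
    ⟨c i, Pi.single (rep i) 1, rfl⟩)

section ext

variable {A B C : Type} [AddCommGroup A] [AddCommGroup B] [AddCommGroup C]
  {ρ : Representation ℤ G A} {σ : Representation ℤ G B} {τ : Representation ℤ G C}
  {i : A →ₗ[ℤ] B} {π : B →ₗ[ℤ] C}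

lemma isCoflasque_of_extension (hi : GLat.IsEquivariant ρ σ i) (hπ : GLat.IsEquivariant σ τ π)
    (hinj : Function.Injective i) (hex : LinearMap.range i = LinearMap.ker π)
    (hsurj : Function.Surjective π) (hA : GLat.IsCoflasque ρ) (hC : GLat.IsCoflasque τ) :
    GLat.IsCoflasque σ := by
  intro H f hf
  obtain ⟨m, hm⟩ := hC H (fun a => π (f a)) fun a b => by rw [hf, map_add, hπ]
  obtain ⟨n, rfl⟩ := hsurj m
  have hg : ∀ a : H, ∃ x, i x = f a - (σ (a : G) n - n) := fun a => by
    have : f a - (σ (a : G) n - n) ∈ LinearMap.range i := by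
      rw [hex, LinearMap.mem_ker, map_sub, map_sub, hπ, hm, sub_self]
    exact this
  choose g hg using hg
  obtain ⟨k, hk⟩ := hA H g fun a b => by
    apply hinj
    rw [map_add, hi, hg, hg, hg, hf]
    simp only [Subgroup.coe_mul, map_mul, Module.End.mul_apply, map_sub]
    abel
  refine ⟨n + i k, fun a => ?_⟩
  have := hg a
  rw [hk, map_sub, hi] at this
  rw [map_add]
  rw [eq_sub_iff_add_eq] at this
  rw [← this]
  abel

lemma map_finsum_rep (hπ : GLat.IsEquivariant σ τ π) (H : Subgroup G) (m : B) :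
    π (∑ᶠ h : H, σ (h : G) m) = ∑ᶠ h : H, τ (h : G) (π m) := by
  cases nonempty_fintype H
  rw [finsum_eq_sum_of_fintype, finsum_eq_sum_of_fintype, map_sum]
  exact Finset.sum_congr rfl fun h _ => hπ _ _

lemma map_mem_span (hπ : GLat.IsEquivariant σ τ π) (H : Subgroup G) {x : B}
    (hx : x ∈ Submodule.span ℤ {x : B | ∃ (h : H) (y : B), x = σ (h : G) y - y}) :
    π x ∈ Submodule.span ℤ {x : C | ∃ (h : H) (y : C), x = τ (h : G) y - y} := by
  induction hx using Submodule.span_induction with
  | mem x hx =>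
    obtain ⟨h, y, rfl⟩ := hx
    exact Submodule.subset_span ⟨h, π y, by rw [map_sub, hπ]⟩
  | zero => simp
  | add x y _ _ h₁ h₂ => rw [map_add]; exact Submodule.add_mem _ h₁ h₂
  | smul a x _ h₁ => rw [map_smul]; exact Submodule.smul_mem _ _ h₁

lemma exists_mem_span (hπ : GLat.IsEquivariant σ τ π) (hsurj : Function.Surjective π)
    (H : Subgroup G) {z : C}
    (hz : z ∈ Submodule.span ℤ {x : C | ∃ (h : H) (y : C), x = τ (h : G) y - y}) :
    ∃ x ∈ Submodule.span ℤ {x : B | ∃ (h : H) (y : B), x = σ (h : G) y - y}, π x = z := by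
  induction hz using Submodule.span_induction with
  | mem x hx =>
    obtain ⟨h, y, rfl⟩ := hx
    obtain ⟨y', rfl⟩ := hsurj y
    exact ⟨_, Submodule.subset_span ⟨h, y', rfl⟩, by rw [map_sub, hπ]⟩
  | zero => exact ⟨0, Submodule.zero_mem _, map_zero π⟩
  | add x y _ _ h₁ h₂ =>
    obtain ⟨a, ha, rfl⟩ := h₁
    obtain ⟨b, hb, rfl⟩ := h₂
    exact ⟨a + b, Submodule.add_mem _ ha hb, map_add π a b⟩
  | smul n x _ h₁ =>
    obtain ⟨a, ha, rfl⟩ := h₁
    exact ⟨n • a, Submodule.smul_mem _ _ ha, map_smul π n a⟩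

lemma norm_eq_zero_of_mem_span (H : Subgroup G) {x : B}
    (hx : x ∈ Submodule.span ℤ {x : B | ∃ (h : H) (y : B), x = σ (h : G) y - y}) :
    ∑ᶠ h : H, σ (h : G) x = 0 := by
  cases nonempty_fintype H
  rw [finsum_eq_sum_of_fintype]
  induction hx using Submodule.span_induction with
  | mem x hx =>
    obtain ⟨h, y, rfl⟩ := hx
    simp only [map_sub, Finset.sum_sub_distrib, sub_eq_zero]
    exact Fintype.sum_equiv (Equiv.mulRight h) _ _ fun a => by
      simp [Subgroup.coe_mul, map_mul, Module.End.mul_apply]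
  | zero => simp
  | add x y _ _ h₁ h₂ => simp [Finset.sum_add_distrib, h₁, h₂]
  | smul n x _ h₁ => simp [← Finset.smul_sum, h₁]

lemma isFlasque_of_extension (hi : GLat.IsEquivariant ρ σ i) (hπ : GLat.IsEquivariant σ τ π)
    (hinj : Function.Injective i) (hex : LinearMap.range i = LinearMap.ker π)
    (hsurj : Function.Surjective π) (hA : GLat.IsFlasque ρ) (hC : GLat.IsFlasque τ) :
    GLat.IsFlasque σ := by
  intro H m hm
  obtain ⟨s, hs, hs'⟩ := exists_mem_span hπ hsurj H
    (hC H (π m) (by rw [← map_finsum_rep hπ, hm, map_zero]))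
  obtain ⟨a, ha⟩ : m - s ∈ LinearMap.range i := by
    rw [hex, LinearMap.mem_ker, map_sub, hs', sub_self]
  have hNa : ∑ᶠ h : H, ρ (h : G) a = 0 := by
    apply hinj
    rw [map_finsum_rep hi, ha, map_zero]
    cases nonempty_fintype H
    have hsn := norm_eq_zero_of_mem_span (σ := σ) H hs
    rw [finsum_eq_sum_of_fintype] at hsn hm ⊢
    simp only [map_sub, Finset.sum_sub_distrib, hm, hsn, sub_zero]
  rw [show m = s + (m - s) by abel, ← ha]
  exact Submodule.add_mem _ hs (map_mem_span hi H (hA H a hNa))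

end ext

/-- The invariants of a subgroup. -/
def invts {A : Type} [AddCommGroup A] (ρ : Representation ℤ G A) (H : Subgroup G) : Submodule ℤ A where
  carrier := {a | ∀ h : H, ρ (h : G) a = a}
  add_mem' := fun {a b} ha hb h => by rw [map_add, ha h, hb h]
  zero_mem' := fun h => map_zero _
  smul_mem' := fun n a ha h => by rw [map_smul, ha h]

/-- The index set of sums of coset modules. -/
def Idx (G : Type) [Group G] (r : Subgroup G → ℕ) : Type :=
  Σ H : Subgroup G, Fin (r H) × (G ⧸ H)

instance (r : Subgroup G → ℕ) : MulAction G (Idx G r) where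
  smul g x := ⟨x.1, x.2.1, g • x.2.2⟩
  one_smul x := by
    show (⟨x.1, x.2.1, (1 : G) • x.2.2⟩ : Idx G r) = x
    rw [one_smul]
    rfl
  mul_smul g g' x := by
    show (⟨x.1, x.2.1, (g * g') • x.2.2⟩ : Idx G r) = ⟨x.1, x.2.1, g • g' • x.2.2⟩
    rw [mul_smul]

instance (r : Subgroup G → ℕ) : Finite (Idx G r) :=
  have : Finite (Subgroup G) := Finite.of_injective (fun H => (H : Set G)) SetLike.coe_injective
  have : ∀ H : Subgroup G, Finite (G ⧸ H) := fun H =>
    Finite.of_surjective (QuotientGroup.mk : G → G ⧸ H) Quotient.mk''_surjective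
  inferInstanceAs (Finite (Σ H : Subgroup G, Fin (r H) × (G ⧸ H)))

/-- An element of the index set. -/
def Idx.mk {r : Subgroup G → ℕ} (H : Subgroup G) (k : Fin (r H)) (g : G) : Idx G r :=
  ⟨H, k, (g : G ⧸ H)⟩

omit [Finite G] in
lemma Idx.smul_mk {r : Subgroup G → ℕ} (H : Subgroup G) (k : Fin (r H)) (g g' : G) :
    g • (Idx.mk H k g' : Idx G r) = Idx.mk H k (g * g') := rfl

omit [Finite G] in
lemma Idx.mk_eq_mk {r : Subgroup G → ℕ} (H : Subgroup G) (k : Fin (r H)) {g g' : G}
    (h : g⁻¹ * g' ∈ H) : (Idx.mk H k g : Idx G r) = Idx.mk H k g' := by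
  unfold Idx.mk
  rw [(QuotientGroup.eq).2 h]

omit [Finite G] in
lemma exists_generators {A : Type} [AddCommGroup A] [Module.Finite ℤ A] (ρ : Representation ℤ G A)
    (H : Subgroup G) :
    ∃ (n : ℕ) (s : Fin n → A), (∀ j, s j ∈ invts ρ H) ∧ invts ρ H ≤ Submodule.span ℤ (Set.range s) := by
  obtain ⟨n, s, hs⟩ := Submodule.fg_iff_exists_fin_generating_family.1
    (IsNoetherian.noetherian (invts ρ H))
  exact ⟨n, s, fun j => hs ▸ Submodule.subset_span ⟨j, rfl⟩, hs.ge⟩

theorem exists_coflasque_kernel (G : Type) [Group G] [Finite G]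
    (A : Type) [AddCommGroup A] [Module.Finite ℤ A] (ρ : Representation ℤ G A) :
    ∃ (Q : Type) (_ : AddCommGroup Q) (P : Type) (_ : AddCommGroup P)
      (_ : Module.Finite ℤ Q) (_ : Module.Free ℤ Q) (_ : Module.Finite ℤ P) (_ : Module.Free ℤ P)
      (σ : Representation ℤ G Q) (τ : Representation ℤ G P) (i : Q →ₗ[ℤ] P) (π : P →ₗ[ℤ] A),
      GLat.IsEquivariant σ τ i ∧ GLat.IsEquivariant τ ρ π ∧ Function.Injective i ∧ Function.Surjective π ∧
      LinearMap.range i = LinearMap.ker π ∧ GLat.IsPermutation τ ∧ GLat.IsCoflasque σ ∧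
      GLat.IsCoflasque τ ∧ GLat.IsFlasque τ := by
  classical
  choose r s hs hgen using exists_generators ρ
  let v : Idx G r → A := fun j => ρ (j.2.2.out) (s j.1 j.2.1)
  have hv : ∀ (g : G) (j : Idx G r), v (g • j) = ρ g (v j) := by
    rintro g ⟨H, k, q⟩
    show ρ ((g • q).out) (s H k) = ρ g (ρ q.out (s H k))
    rw [← Module.End.mul_apply, ← map_mul]
    obtain ⟨h, hh⟩ := QuotientGroup.mk_out_eq_mul H (g * q.out)
    have e : g • q = (QuotientGroup.mk (g * q.out) : G ⧸ H) := by
      conv_lhs => rw [← QuotientGroup.out_eq' q]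
      rfl
    rw [e, hh, map_mul, Module.End.mul_apply, hs H k h]
  cases nonempty_fintype (Idx G r)
  let π : (Idx G r → ℤ) →ₗ[ℤ] A := Fintype.linearCombination ℤ v
  have hπ : GLat.IsEquivariant (permRep G (Idx G r)) ρ π := fun g p => by
    simp only [π, Fintype.linearCombination_apply, map_sum, map_smul, ← hv]
    exact Fintype.sum_equiv (MulAction.toPerm (α := G) g⁻¹) _ _ fun j => by
      simp [MulAction.toPerm_apply]
  have hlift : ∀ (H : Subgroup G) (a : A), a ∈ invts ρ H →
      ∃ p ∈ invts (permRep G (Idx G r)) H, π p = a := by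
    intro H a ha
    have : invts ρ H ≤ (invts (permRep G (Idx G r)) H).map π := by
      refine (hgen H).trans (Submodule.span_le.2 ?_)
      rintro _ ⟨k, rfl⟩
      refine ⟨Pi.single (Idx.mk H k 1) 1, fun h => funext fun j => ?_, ?_⟩
      · simp only [permRep_apply, Pi.single_apply]
        refine if_congr ?_ rfl rfl
        rw [inv_smul_eq_iff, Idx.smul_mk, mul_one,
          Idx.mk_eq_mk H k (g := (h : G)) (g' := 1) (by simp)]
      · rw [Fintype.linearCombination_apply_single, one_smul]
        show ρ (Quotient.out (QuotientGroup.mk (1 : G) : G ⧸ H)) (s H k) = s H k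
        obtain ⟨h, hh⟩ := QuotientGroup.mk_out_eq_mul H (1 : G)
        rw [hh, one_mul]
        exact hs H k h
    obtain ⟨p, hp, rfl⟩ := this ha
    exact ⟨p, hp, rfl⟩
  have hsurj : Function.Surjective π := fun a => by
    obtain ⟨p, -, hp⟩ := hlift ⊥ a fun h => by
      have hh : (h : G) = 1 := Subgroup.mem_bot.1 h.2
      simp [hh]
    exact ⟨p, hp⟩
  let σ : Representation ℤ G (LinearMap.ker π) :=
    { toFun := fun g => (permRep G (Idx G r) g).restrict fun p hp => by
        rw [LinearMap.mem_ker, hπ, LinearMap.mem_ker.1 hp, map_zero]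
      map_one' := by ext p : 2; simp
      map_mul' := fun g g' => by ext p : 2; simp [map_mul, Module.End.mul_apply] }
  refine ⟨LinearMap.ker π, inferInstance, Idx G r → ℤ, inferInstance, inferInstance, inferInstance,
    inferInstance, inferInstance, σ, permRep G (Idx G r), (LinearMap.ker π).subtype, π,
    fun g m => rfl, hπ, Subtype.val_injective, hsurj, Submodule.range_subtype _,
    isPermutation_permRep _, ?_, isCoflasque_permRep _, isFlasque_permRep _⟩
  intro H f hf
  obtain ⟨p, hp⟩ := isCoflasque_permRep (Idx G r) H (fun a => (f a : Idx G r → ℤ)) fun a b => by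
    rw [hf]; rfl
  obtain ⟨p', hp', hpp⟩ := hlift H (π p) fun h => by
    rw [← hπ, ← sub_eq_zero, ← map_sub, ← hp h]
    exact LinearMap.mem_ker.1 (f h).2
  refine ⟨⟨p - p', by rw [LinearMap.mem_ker, map_sub, hpp, sub_self]⟩, fun a => Subtype.ext ?_⟩
  show (f a : Idx G r → ℤ) = permRep G (Idx G r) (a : G) (p - p') - (p - p')
  rw [map_sub, hp' a, hp a]
  abel

/-- The dual representation. -/
def dualRep {A : Type} [AddCommGroup A] (ρ : Representation ℤ G A) :
    Representation ℤ G (Module.Dual ℤ A) where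
  toFun g := LinearMap.lcomp ℤ ℤ (ρ g⁻¹)
  map_one' := by ext φ a; simp
  map_mul' g g' := by ext φ a; simp [map_mul, mul_inv_rev, Module.End.mul_apply]

lemma free_of_saturated {P : Type} [AddCommGroup P] [Module.Finite ℤ P] (N : Submodule ℤ P)
    (h : ∀ (n : ℤ) (p : P), n ≠ 0 → n • p ∈ N → p ∈ N) : Module.Free ℤ (P ⧸ N) := by
  have : IsAddTorsionFree (P ⧸ N) := by
    rw [isAddTorsionFree_iff_not_isOfFinAddOrder]
    intro x hx hfin
    obtain ⟨p, rfl⟩ := Submodule.mkQ_surjective N x
    obtain ⟨n, hn, hnx⟩ := (isOfFinAddOrder_iff_nsmul_eq_zero).1 hfin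
    refine hx ((Submodule.Quotient.mk_eq_zero N).2 (h (n : ℤ) p (by exact_mod_cast hn.ne') ?_))
    rw [natCast_zsmul, ← Submodule.Quotient.mk_eq_zero N, ← Submodule.mkQ_apply, map_nsmul]
    exact hnx
  exact Module.free_of_finite_type_torsion_free'

/-- A fixed element whose pairings with invariant functionals are divisible by the order is a norm. -/
lemma exists_norm_eq {A : Type} [AddCommGroup A] [Module.Finite ℤ A] [Module.Free ℤ A]
    (ρ : Representation ℤ G A) (H : Subgroup G) {a : A} (ha : a ∈ invts ρ H)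
    (hφ : ∀ φ ∈ invts (dualRep ρ) H, (Nat.card H : ℤ) ∣ φ a) :
    ∃ x : A, ∑ᶠ h : H, ρ (h : G) x = a := by
  classical
  cases nonempty_fintype H
  let N : A →ₗ[ℤ] A := ∑ h : H, ρ (h : G)
  have hN : ∀ x, N x = ∑ h : H, ρ (h : G) x := fun x => LinearMap.sum_apply _ _ _
  suffices a ∈ LinearMap.range N by
    obtain ⟨x, hx⟩ := this
    exact ⟨x, by rw [finsum_eq_sum_of_fintype, ← hN, hx]⟩
  have hNI : ∀ x, N x ∈ invts ρ H := fun x h => by
    rw [hN, map_sum]
    exact Fintype.sum_equiv (Equiv.mulLeft h) _ _ fun b => by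
      simp [Subgroup.coe_mul, map_mul, Module.End.mul_apply]
  obtain ⟨n, sm⟩ := Submodule.smithNormalForm (Module.Free.chooseBasis ℤ (invts ρ H))
    ((LinearMap.range N).comap (invts ρ H).subtype)
  let M := (LinearMap.range N).comap (invts ρ H).subtype
  suffices (⟨a, ha⟩ : invts ρ H) ∈ M from this
  have hcard : ∀ y : invts ρ H, (Nat.card H : ℤ) • y ∈ M := fun y => by
    refine ⟨y.1, ?_⟩
    rw [hN, Finset.sum_congr rfl (fun h _ => y.2 h), Finset.sum_const, Finset.card_univ,
      Nat.card_eq_fintype_card]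
    exact (natCast_zsmul _ _).symm
  have hfunc : ∀ μ : invts ρ H →ₗ[ℤ] ℤ, (∀ z ∈ M, (Nat.card H : ℤ) ∣ μ z) →
      (Nat.card H : ℤ) ∣ μ ⟨a, ha⟩ := by
    intro μ hμ
    let d : ℤ := Nat.card H
    have hd : d ≠ 0 := by simp only [d]; exact_mod_cast Nat.card_pos.ne'
    have hdiv : ∀ x : A, d ∣ μ ⟨N x, hNI x⟩ := fun x => hμ _ ⟨x, rfl⟩
    let φ : Module.Dual ℤ A :=
      { toFun := fun x => μ ⟨N x, hNI x⟩ / d
        map_add' := fun x y => by
          rw [← Int.add_ediv_of_dvd_left (hdiv x), ← map_add]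
          exact congrArg (fun z => μ z / d) (Subtype.ext (map_add N x y))
        map_smul' := fun c x => by
          rw [RingHom.id_apply, smul_eq_mul, ← Int.mul_ediv_assoc _ (hdiv x), ← smul_eq_mul, ← map_smul]
          exact congrArg (fun z => μ z / d) (Subtype.ext (map_smul N c x)) }
    have hφ' : φ ∈ invts (dualRep ρ) H := fun h => by
      ext x
      show μ ⟨N (ρ (h : G)⁻¹ x), hNI _⟩ / d = μ ⟨N x, hNI x⟩ / d
      refine congrArg (fun z => μ z / d) (Subtype.ext ?_)
      show N _ = N x
      rw [hN, hN]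
      exact Fintype.sum_equiv (Equiv.mulRight h⁻¹) _ _ fun b => by
        simp [Subgroup.coe_mul, map_mul, Module.End.mul_apply]
    have e : φ a = μ ⟨a, ha⟩ := by
      show μ ⟨N a, hNI a⟩ / d = μ ⟨a, ha⟩
      have : (⟨N a, hNI a⟩ : invts ρ H) = d • ⟨a, ha⟩ := Subtype.ext (by
        show N a = d • a
        rw [hN, Finset.sum_congr rfl (fun h _ => ha h), Finset.sum_const, Finset.card_univ]
        simp only [d, Nat.card_eq_fintype_card, natCast_zsmul])
      rw [this, map_smul, smul_eq_mul, Int.mul_ediv_cancel_left _ hd]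
    exact e ▸ hφ φ hφ'
  -- decide membership coordinatewise
  have hsurj : Function.Surjective sm.f := by
    intro i
    by_contra hne
    have h1 : (Nat.card H : ℤ) ∣ sm.bM.coord i ((Nat.card H : ℤ) • sm.bM i) := by
      simp [Module.Basis.coord_apply]
    have hz := sm.repr_eq_zero_of_notMem_range (n := n) ⟨_, hcard (sm.bM i)⟩
      (i := i) (fun ⟨k, hk⟩ => hne ⟨k, hk⟩)
    simp at hz
  rw [← sm.bM.sum_repr ⟨a, ha⟩]
  refine Submodule.sum_mem _ fun i _ => ?_
  obtain ⟨k, rfl⟩ := hsurj i
  have hk : sm.a k ∣ (Nat.card H : ℤ) := by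
    have := sm.repr_apply_embedding_eq_repr_smul (⟨_, hcard (sm.bM (sm.f k))⟩ : M) (i := k)
    simp only [map_smul, Module.Basis.repr_self, Finsupp.smul_single, smul_eq_mul, mul_one,
      Finsupp.single_eq_same] at this
    exact ⟨_, this⟩
  obtain ⟨e, he⟩ := hk
  have hmu := hfunc (e • sm.bM.coord (sm.f k)) fun z hz => by
    have := sm.repr_apply_embedding_eq_repr_smul (⟨z, hz⟩ : M) (i := k)
    simp only [LinearMap.smul_apply, Module.Basis.coord_apply, smul_eq_mul]
    rw [this, he]
    simp only [map_smul, Finsupp.smul_apply, smul_eq_mul]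
    exact ⟨sm.bN.repr ⟨z, hz⟩ k, by ring⟩
  simp only [LinearMap.smul_apply, Module.Basis.coord_apply, smul_eq_mul] at hmu
  rw [he, mul_comm (sm.a k)] at hmu
  have hek : e ≠ 0 := fun h0 => by
    rw [h0, mul_zero] at he
    exact Nat.card_pos.ne' (by exact_mod_cast he)
  obtain ⟨c, hc⟩ := Int.dvd_of_mul_dvd_mul_left hek hmu
  rw [hc, mul_comm, mul_smul]
  refine Submodule.smul_mem _ _ ?_
  rw [← sm.snf k]
  exact (sm.bN k).2

end Groth.Agent.GLatLib
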