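import Groth.Agent.GLatLib.Basic
import Mathlib.LinearAlgebra.Prod
import Mathlib.LinearAlgebra.Quotient.Basic
import Mathlib.LinearAlgebra.Dimension.Free

/-!
# The four resolutions
-/

open Finset

namespace Groth.Agent.GLatLib

theorem exists_flasque_resolution (G : Type) [Group G] [Finite G]
    (A : Type) [AddCommGroup A] [Module.Finite ℤ A] [Module.Free ℤ A] (ρ : Representation ℤ G A) :
    ∃ (P : Type) (_ : AddCommGroup P) (F : Type) (_ : AddCommGroup F)
      (_ : Module.Finite ℤ P) (_ : Module.Free ℤ P) (_ : Module.Finite ℤ F) (_ : Module.Free ℤ F)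
      (σ : Representation ℤ G P) (τ : Representation ℤ G F) (i : A →ₗ[ℤ] P) (π : P →ₗ[ℤ] F),
      GLat.IsEquivariant ρ σ i ∧ GLat.IsEquivariant σ τ π ∧ Function.Injective i ∧ Function.Surjective π ∧
      LinearMap.range i = LinearMap.ker π ∧ GLat.IsPermutation σ ∧ GLat.IsFlasque τ ∧
      GLat.IsCoflasque σ ∧ GLat.IsFlasque σ := by
  classical
  choose r s hs hgen using exists_generators (dualRep ρ)
  let w : Idx G r → Module.Dual ℤ A := fun j => dualRep ρ (j.2.2.out) (s j.1 j.2.1)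
  have hwmk : ∀ H k g, w (Idx.mk H k g) = dualRep ρ g (s H k) := by
    intro H k g
    obtain ⟨h, hh⟩ := QuotientGroup.mk_out_eq_mul H g
    show dualRep ρ (Quotient.out (QuotientGroup.mk g : G ⧸ H)) (s H k) = _
    rw [hh, map_mul, Module.End.mul_apply, hs H k h]
  have hw : ∀ (g : G) (j : Idx G r), w (g • j) = dualRep ρ g (w j) := by
    rintro g ⟨H, k, q⟩
    obtain ⟨g', rfl⟩ := QuotientGroup.mk_surjective q
    show w (g • Idx.mk H k g') = dualRep ρ g (w (Idx.mk H k g'))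
    rw [Idx.smul_mk, hwmk, hwmk, map_mul, Module.End.mul_apply]
  let i : A →ₗ[ℤ] (Idx G r → ℤ) := LinearMap.pi w
  have hi : GLat.IsEquivariant ρ (permRep G (Idx G r)) i := fun g a => funext fun j => by
    show w j (ρ g a) = w (g⁻¹ • j) a
    rw [hw]
    show w j (ρ g a) = w j (ρ g⁻¹⁻¹ a)
    rw [inv_inv]
  have hspan : ∀ (φ : Module.Dual ℤ A) (a : A) (n : ℤ), (∀ j, n ∣ w j a) → n ∣ φ a := by
    intro φ a n hn
    have hφ : φ ∈ Submodule.span ℤ (Set.range (s ⊥)) := hgen ⊥ fun h => by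
      rw [Subgroup.mem_bot.1 h.2, map_one]
      rfl
    induction hφ using Submodule.span_induction with
    | mem x hx =>
      obtain ⟨k, rfl⟩ := hx
      have := hn (Idx.mk ⊥ k 1)
      rwa [hwmk, map_one] at this
    | zero => simp
    | add x y _ _ hx hy => exact dvd_add hx hy
    | smul c x _ hx => exact Dvd.dvd.mul_left hx c
  let b := Module.Free.chooseBasis ℤ A
  have hinj : Function.Injective i := by
    rw [injective_iff_map_eq_zero]
    intro a ha
    refine b.ext_elem fun k => ?_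
    have := hspan (b.coord k) a 0 fun j => by rw [show w j a = i a j from rfl, ha]; simp
    simpa using this
  have hsat : ∀ (n : ℤ) (p : Idx G r → ℤ), n ≠ 0 → n • p ∈ LinearMap.range i → p ∈ LinearMap.range i := by
    rintro n p hn ⟨a, ha⟩
    have hd : ∀ k, n ∣ b.coord k a := fun k => hspan _ a n fun j => ⟨p j, congrFun ha j⟩
    choose c hc using hd
    refine ⟨∑ k, c k • b k, ?_⟩
    have : n • ∑ k, c k • b k = a := by
      conv_rhs => rw [← b.sum_repr a]
      rw [Finset.smul_sum]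
      refine Finset.sum_congr rfl fun k _ => ?_
      rw [smul_smul, ← hc k]
      rfl
    funext j
    have hj := congrFun ha j
    rw [← this, map_smul] at hj
    exact mul_left_cancel₀ hn hj
  have := free_of_saturated (LinearMap.range i) hsat
  let τ : Representation ℤ G ((Idx G r → ℤ) ⧸ LinearMap.range i) :=
    { toFun := fun g => Submodule.mapQ _ _ (permRep G (Idx G r) g) (by
        rintro _ ⟨a, rfl⟩
        exact ⟨ρ g a, hi g a⟩)
      map_one' := by
        apply Submodule.linearMap_qext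
        ext p
        simp
      map_mul' := fun g g' => by
        apply Submodule.linearMap_qext
        ext p
        simp [map_mul, Module.End.mul_apply] }
  have hπ : GLat.IsEquivariant (permRep G (Idx G r)) τ (LinearMap.range i).mkQ := fun g p => rfl
  refine ⟨Idx G r → ℤ, inferInstance, (Idx G r → ℤ) ⧸ LinearMap.range i, inferInstance, inferInstance,
    inferInstance, inferInstance, inferInstance, permRep G (Idx G r), τ, i, (LinearMap.range i).mkQ,
    hi, hπ, hinj, Submodule.mkQ_surjective _, (Submodule.ker_mkQ _).symm, isPermutation_permRep _, ?_,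
    isCoflasque_permRep _, isFlasque_permRep _⟩
  intro H m hm
  obtain ⟨p, rfl⟩ := Submodule.mkQ_surjective _ m
  rw [← map_finsum_rep hπ, ← LinearMap.mem_ker, Submodule.ker_mkQ] at hm
  obtain ⟨a, ha⟩ := hm
  cases nonempty_fintype H
  rw [finsum_eq_sum_of_fintype] at ha
  have hfix : a ∈ invts ρ H := fun h => hinj (by
    rw [hi, ha, map_sum]
    exact Fintype.sum_equiv (Equiv.mulLeft h) _ _ fun b => by
      simp [Subgroup.coe_mul, map_mul, Module.End.mul_apply])
  obtain ⟨x, hx⟩ := exists_norm_eq ρ H hfix fun φ hφ => by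
    have hsp := hgen H hφ
    clear hφ
    induction hsp using Submodule.span_induction with
    | mem y hy =>
      obtain ⟨k, rfl⟩ := hy
      have e := congrFun ha (Idx.mk H k 1)
      rw [Finset.sum_apply] at e
      have : ∀ h : H, permRep G (Idx G r) (h : G) p (Idx.mk H k 1) = p (Idx.mk H k 1) := fun h => by
        rw [permRep_apply, Idx.smul_mk, mul_one, Idx.mk_eq_mk H k (g := (h : G)⁻¹) (g' := 1) (by simp)]
      simp only [this, Finset.sum_const, Finset.card_univ, nsmul_eq_mul] at e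
      refine ⟨p (Idx.mk H k 1), ?_⟩
      rw [Nat.card_eq_fintype_card, ← e]
      show _ = w (Idx.mk H k 1) a
      rw [hwmk, map_one]
      rfl
    | zero => simp
    | add x y _ _ hx hy => exact dvd_add hx hy
    | smul c x _ hx => exact Dvd.dvd.mul_left hx c
  have hNp : ∑ᶠ h : H, permRep G (Idx G r) (h : G) (p - i x) = 0 := by
    rw [finsum_eq_sum_of_fintype]
    simp only [map_sub, Finset.sum_sub_distrib]
    rw [← ha, sub_eq_zero, ← hx, finsum_eq_sum_of_fintype, map_sum]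
    exact Finset.sum_congr rfl fun h _ => hi _ _
  have e : (LinearMap.range i).mkQ p = (LinearMap.range i).mkQ (p - i x) := by
    rw [map_sub, show (LinearMap.range i).mkQ (i x) = 0 from
      (Submodule.Quotient.mk_eq_zero _).2 ⟨x, rfl⟩, sub_zero]
  rw [e]
  exact map_mem_span hπ H (isFlasque_permRep _ H _ hNp)

theorem exists_permutation_kernel (G : Type) [Group G] [Finite G]
    (A : Type) [AddCommGroup A] [Module.Finite ℤ A] (ρ : Representation ℤ G A) :
    ∃ (P : Type) (_ : AddCommGroup P) (F : Type) (_ : AddCommGroup F)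
      (_ : Module.Finite ℤ P) (_ : Module.Free ℤ P) (_ : Module.Finite ℤ F) (_ : Module.Free ℤ F)
      (σ : Representation ℤ G P) (τ : Representation ℤ G F) (i : P →ₗ[ℤ] F) (π : F →ₗ[ℤ] A),
      GLat.IsEquivariant σ τ i ∧ GLat.IsEquivariant τ ρ π ∧ Function.Injective i ∧ Function.Surjective π ∧
      LinearMap.range i = LinearMap.ker π ∧ GLat.IsPermutation σ ∧ GLat.IsFlasque τ := by
  obtain ⟨Q, _, P', _, _, _, _, _, α, β, j, q, hj, hq, hjinj, hqsurj, hjq, -, -, -, hP'fl⟩ :=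
    exists_coflasque_kernel G A ρ
  obtain ⟨P, _, F', _, _, _, _, _, γ, δ, k, t, hk, ht, hkinj, htsurj, hkt, hPperm, hF', -, -⟩ :=
    exists_flasque_resolution G Q α
  let Δ : Q →ₗ[ℤ] P × P' := LinearMap.prod k (-j)
  have hΔ : GLat.IsEquivariant α (γ.prod β) Δ := fun g m => by
    show (k (α g m), -j (α g m)) = (γ g (k m), β g (-j m))
    rw [hk, hj, map_neg]
  let τ : Representation ℤ G ((P × P') ⧸ LinearMap.range Δ) :=
    { toFun := fun g => Submodule.mapQ _ _ ((γ.prod β) g) (by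
        rintro _ ⟨a, rfl⟩
        exact ⟨α g a, hΔ g a⟩)
      map_one' := by
        apply Submodule.linearMap_qext
        ext p <;> simp
      map_mul' := fun g g' => by
        apply Submodule.linearMap_qext
        ext p <;> simp [map_mul, Module.End.mul_apply] }
  have hmk : ∀ p p', Submodule.Quotient.mk (p, p') = (0 : (P × P') ⧸ LinearMap.range Δ) ↔
      ∃ m, k m = p ∧ -j m = p' := fun p p' => by
    rw [Submodule.Quotient.mk_eq_zero]
    exact ⟨fun ⟨m, hm⟩ => ⟨m, congrArg Prod.fst hm, congrArg Prod.snd hm⟩,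
      fun ⟨m, h₁, h₂⟩ => ⟨m, Prod.ext h₁ h₂⟩⟩
  let i₁ : P →ₗ[ℤ] (P × P') ⧸ LinearMap.range Δ := (LinearMap.range Δ).mkQ ∘ₗ LinearMap.inl ℤ P P'
  let i₂ : P' →ₗ[ℤ] (P × P') ⧸ LinearMap.range Δ := (LinearMap.range Δ).mkQ ∘ₗ LinearMap.inr ℤ P P'
  let π₁ : (P × P') ⧸ LinearMap.range Δ →ₗ[ℤ] A := (LinearMap.range Δ).liftQ (q ∘ₗ LinearMap.snd ℤ P P') (by
    rintro _ ⟨m, rfl⟩
    show q (-j m) = 0
    rw [map_neg, neg_eq_zero, ← LinearMap.mem_ker, ← hjq]
    exact ⟨m, rfl⟩)
  let π₂ : (P × P') ⧸ LinearMap.range Δ →ₗ[ℤ] F' := (LinearMap.range Δ).liftQ (t ∘ₗ LinearMap.fst ℤ P P') (by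
    rintro _ ⟨m, rfl⟩
    show t (k m) = 0
    rw [← LinearMap.mem_ker, ← hkt]
    exact ⟨m, rfl⟩)
  have hi₁ : GLat.IsEquivariant γ τ i₁ := fun g m => by
    refine congrArg Submodule.Quotient.mk ?_
    show ((γ g m, 0) : P × P') = (γ g m, β g 0)
    rw [map_zero]
  have hi₂ : GLat.IsEquivariant β τ i₂ := fun g m => by
    refine congrArg Submodule.Quotient.mk ?_
    show ((0, β g m) : P × P') = (γ g 0, β g m)
    rw [map_zero]
  have hπ₁ : GLat.IsEquivariant τ ρ π₁ := fun g m => by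
    obtain ⟨⟨p, p'⟩, rfl⟩ := Submodule.mkQ_surjective _ m
    exact hq g p'
  have hπ₂ : GLat.IsEquivariant τ δ π₂ := fun g m => by
    obtain ⟨⟨p, p'⟩, rfl⟩ := Submodule.mkQ_surjective _ m
    exact ht g p
  have hi₁inj : Function.Injective i₁ := by
    rw [injective_iff_map_eq_zero]
    intro p hp
    obtain ⟨m, h₁, h₂⟩ := (hmk p 0).1 hp
    rw [neg_eq_zero, ← map_zero j] at h₂
    rw [← h₁, hjinj h₂, map_zero]
  have hi₂inj : Function.Injective i₂ := by
    rw [injective_iff_map_eq_zero]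
    intro p hp
    obtain ⟨m, h₁, h₂⟩ := (hmk 0 p).1 hp
    rw [← map_zero k] at h₁
    rw [← h₂, hkinj h₁, map_zero, neg_zero]
  have hex₁ : LinearMap.range i₁ = LinearMap.ker π₁ := by
    ext m
    constructor
    · rintro ⟨p, rfl⟩
      show q 0 = 0
      exact map_zero q
    · intro hm
      obtain ⟨⟨p, p'⟩, rfl⟩ := Submodule.mkQ_surjective _ m
      obtain ⟨u, hu⟩ : p' ∈ LinearMap.range j := hjq ▸ hm
      refine ⟨p + k u, ?_⟩
      rw [← sub_eq_zero]
      show Submodule.Quotient.mk ((p + k u, 0) : P × P') - Submodule.Quotient.mk (p, p') = 0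
      rw [← Submodule.Quotient.mk_sub, Prod.mk_sub_mk]
      exact (hmk _ _).2 ⟨u, by simp, by simp [hu]⟩
  have hex₂ : LinearMap.range i₂ = LinearMap.ker π₂ := by
    ext m
    constructor
    · rintro ⟨p, rfl⟩
      show t 0 = 0
      exact map_zero t
    · intro hm
      obtain ⟨⟨p, p'⟩, rfl⟩ := Submodule.mkQ_surjective _ m
      obtain ⟨u, hu⟩ : p ∈ LinearMap.range k := hkt ▸ hm
      refine ⟨p' + j u, ?_⟩
      rw [← sub_eq_zero]
      show Submodule.Quotient.mk ((0, p' + j u) : P × P') - Submodule.Quotient.mk (p, p') = 0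
      rw [← Submodule.Quotient.mk_sub, Prod.mk_sub_mk]
      exact (hmk _ _).2 ⟨-u, by simp [hu], by simp⟩
  have hπ₁surj : Function.Surjective π₁ := fun a => by
    obtain ⟨p', rfl⟩ := hqsurj a
    exact ⟨Submodule.Quotient.mk (0, p'), rfl⟩
  have hπ₂surj : Function.Surjective π₂ := fun a => by
    obtain ⟨p, rfl⟩ := htsurj a
    exact ⟨Submodule.Quotient.mk (p, 0), rfl⟩
  have hfree : Module.Free ℤ ((P × P') ⧸ LinearMap.range Δ) := by
    refine free_of_saturated _ fun n x hn hx => ?_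
    obtain ⟨p, p'⟩ := x
    rw [← Submodule.Quotient.mk_eq_zero] at hx ⊢
    have h2 : n • π₂ (Submodule.Quotient.mk (p, p')) = 0 := by
      rw [← map_smul, ← Submodule.Quotient.mk_smul, hx, map_zero]
    have h2' := (smul_eq_zero.1 h2).resolve_left hn
    obtain ⟨u, hu⟩ : Submodule.Quotient.mk (p, p') ∈ LinearMap.range i₂ := hex₂ ▸ h2'
    have : n • u = 0 := hi₂inj (by rw [map_smul, hu, ← Submodule.Quotient.mk_smul, hx, map_zero])
    rw [← hu, (smul_eq_zero.1 this).resolve_left hn, map_zero]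
  exact ⟨P, inferInstance, (P × P') ⧸ LinearMap.range Δ, inferInstance, inferInstance, inferInstance,
    inferInstance, hfree, γ, τ, i₁, π₁, hi₁, hπ₁, hi₁inj, hπ₁surj, hex₁, hPperm,
    isFlasque_of_extension hi₂ hπ₂ hi₂inj hex₂ hπ₂surj hP'fl hF'⟩

theorem exists_coflasque_resolution (G : Type) [Group G] [Finite G]
    (A : Type) [AddCommGroup A] [Module.Finite ℤ A] [Module.Free ℤ A] (ρ : Representation ℤ G A) :
    ∃ (Q : Type) (_ : AddCommGroup Q) (P : Type) (_ : AddCommGroup P)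
      (_ : Module.Finite ℤ Q) (_ : Module.Free ℤ Q) (_ : Module.Finite ℤ P) (_ : Module.Free ℤ P)
      (σ : Representation ℤ G Q) (τ : Representation ℤ G P) (i : A →ₗ[ℤ] Q) (π : Q →ₗ[ℤ] P),
      GLat.IsEquivariant ρ σ i ∧ GLat.IsEquivariant σ τ π ∧ Function.Injective i ∧ Function.Surjective π ∧
      LinearMap.range i = LinearMap.ker π ∧ GLat.IsCoflasque σ ∧ GLat.IsPermutation τ := by
  obtain ⟨P₀, _, F, _, _, _, _, _, γ, δ, k, t, hk, ht, hkinj, htsurj, hkt, -, -, hP₀co, -⟩ :=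
    exists_flasque_resolution G A ρ
  obtain ⟨Q₁, _, P₁, _, _, _, _, _, α, β, j, q, hj, hq, hjinj, hqsurj, hjq, hP₁perm, hQ₁co, -, -⟩ :=
    exists_coflasque_kernel G F δ
  let d : P₀ × P₁ →ₗ[ℤ] F := t ∘ₗ LinearMap.fst ℤ P₀ P₁ - q ∘ₗ LinearMap.snd ℤ P₀ P₁
  have hd : ∀ g x, d ((γ.prod β) g x) = δ g (d x) := fun g x => by
    show t (γ g x.1) - q (β g x.2) = δ g (t x.1 - q x.2)
    rw [ht, hq, map_sub]
  let σ : Representation ℤ G (LinearMap.ker d) :=
    { toFun := fun g => ((γ.prod β) g).restrict fun x hx => by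
        rw [LinearMap.mem_ker, hd, LinearMap.mem_ker.1 hx, map_zero]
      map_one' := by ext x : 2; simp
      map_mul' := fun g g' => by ext x : 2; simp [map_mul, Module.End.mul_apply] }
  have hmem : ∀ {p₀ : P₀} {p₁ : P₁}, t p₀ = q p₁ → ((p₀, p₁) : P₀ × P₁) ∈ LinearMap.ker d :=
    fun h => sub_eq_zero.2 h
  let i₁ : A →ₗ[ℤ] LinearMap.ker d := (LinearMap.inl ℤ P₀ P₁ ∘ₗ k).codRestrict _ fun a =>
    hmem (show t (k a) = q 0 by rw [map_zero, ← LinearMap.mem_ker, ← hkt]; exact ⟨a, rfl⟩)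
  let i₂ : Q₁ →ₗ[ℤ] LinearMap.ker d := (LinearMap.inr ℤ P₀ P₁ ∘ₗ j).codRestrict _ fun a =>
    hmem (show t 0 = q (j a) by rw [map_zero, eq_comm, ← LinearMap.mem_ker, ← hjq]; exact ⟨a, rfl⟩)
  let π₁ : LinearMap.ker d →ₗ[ℤ] P₁ := LinearMap.snd ℤ P₀ P₁ ∘ₗ (LinearMap.ker d).subtype
  let π₂ : LinearMap.ker d →ₗ[ℤ] P₀ := LinearMap.fst ℤ P₀ P₁ ∘ₗ (LinearMap.ker d).subtype
  have hi₁ : GLat.IsEquivariant ρ σ i₁ := fun g a => Subtype.ext (by
    show ((k (ρ g a), 0) : P₀ × P₁) = (γ g (k a), β g 0)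
    rw [hk, map_zero])
  have hi₂ : GLat.IsEquivariant α σ i₂ := fun g a => Subtype.ext (by
    show ((0, j (α g a)) : P₀ × P₁) = (γ g 0, β g (j a))
    rw [hj, map_zero])
  refine ⟨LinearMap.ker d, inferInstance, P₁, inferInstance, inferInstance, inferInstance, inferInstance,
    inferInstance, σ, β, i₁, π₁, hi₁, fun g x => rfl,
    fun a b h => hkinj (congrArg (fun x : LinearMap.ker d => x.1.1) h), ?_, ?_, ?_, hP₁perm⟩
  · intro p₁
    obtain ⟨p₀, hp⟩ := htsurj (q p₁)
    exact ⟨⟨(p₀, p₁), hmem hp⟩, rfl⟩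
  · ext ⟨⟨p₀, p₁⟩, hx⟩
    constructor
    · rintro ⟨a, ha⟩
      exact (congrArg (fun x : LinearMap.ker d => x.1.2) ha).symm
    · intro h
      have h1 : p₁ = 0 := h
      obtain ⟨a, ha⟩ : p₀ ∈ LinearMap.range k := by
        rw [hkt, LinearMap.mem_ker]
        exact (sub_eq_zero.1 hx).trans (show q p₁ = 0 by rw [h1, map_zero])
      exact ⟨a, Subtype.ext (Prod.ext ha h1.symm)⟩
  · refine isCoflasque_of_extension (ρ := α) (τ := γ) (i := i₂) (π := π₂) hi₂ (fun g x => rfl)
      (fun a b h => hjinj (congrArg (fun x : LinearMap.ker d => x.1.2) h)) ?_ ?_ hQ₁co hP₀co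
    · ext ⟨⟨p₀, p₁⟩, hx⟩
      constructor
      · rintro ⟨a, ha⟩
        exact (congrArg (fun x : LinearMap.ker d => x.1.1) ha).symm
      · intro h
        have h1 : p₀ = 0 := h
        obtain ⟨a, ha⟩ : p₁ ∈ LinearMap.range j := by
          rw [hjq, LinearMap.mem_ker]
          exact (show t p₀ = q p₁ from sub_eq_zero.1 hx).symm.trans (show t p₀ = 0 by rw [h1, map_zero])
        exact ⟨a, Subtype.ext (Prod.ext h1.symm ha)⟩
    · intro p₀
      obtain ⟨p₁, hp⟩ := hqsurj (t p₀)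
      exact ⟨⟨(p₀, p₁), hmem hp.symm⟩, rfl⟩

end Groth.Agent.GLatLib
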